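import Cfsg.Agent.EqLemmas

/-!
Basic theory of the Dade set-up `Cfsg.DadeHypothesis A L H`.

Main results (namespace `Cfsg.Agent.Dade`):
* `eq_of_conj_coset` : a conjugation carrying `a * u` to `b * v` (`u ∈ H a`, `v ∈ H b`) carries `a` to `b`.
* `H_conj` : `H (x a x⁻¹) = (H a)^x` for `x ∈ L`.
* `dadeIsometry_apply`, `dadeIsometry_eq_zero`, `dadeIsometry_isClassFunction`.
* `sum_support` : double counting formula for a class function vanishing off the Dade support.
* `classInner_dade` : `⟨α^τ, χ⟩ = ⟨α, average of χ over the cosets⟩`.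
-/
set_option autoImplicit false

namespace Cfsg.Agent.Dade

open scoped ComplexConjugate

variable {G : Type*} [Group G] {A : Set G} {L : Subgroup G} {H : G → Subgroup G}

theorem mem_centralizer_self_of_mem (hD : Cfsg.DadeHypothesis A L H) {a : G} (ha : a ∈ A) :
    a ∈ L ⊓ Subgroup.centralizer ({a} : Set G) :=
  ⟨hD.subset ha, Subgroup.mem_centralizer_singleton_iff.mpr rfl⟩

theorem commute_of_mem_H (hD : Cfsg.DadeHypothesis A L H) {a u : G} (ha : a ∈ A) (hu : u ∈ H a) :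
    Commute a u :=
  (Subgroup.mem_centralizer_singleton_iff.mp (hD.le_centralizer a ha hu)).symm

/-- An element of `H a` lying in `L` is trivial. -/
theorem eq_one_of_mem_H_of_mem (hD : Cfsg.DadeHypothesis A L H) {a u : G} (ha : a ∈ A)
    (hu : u ∈ H a) (huL : u ∈ L) : u = 1 := by
  have : u ∈ H a ⊓ (L ⊓ Subgroup.centralizer ({a} : Set G)) :=
    ⟨hu, huL, hD.le_centralizer a ha hu⟩
  rwa [hD.inf_eq_bot a ha, Subgroup.mem_bot] at this

/-- A power that fixes `a` and kills `u`, for `a ∈ A` and `u ∈ H a`, uniformly in two members. -/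
theorem exists_pow_split [Finite G] (hD : Cfsg.DadeHypothesis A L H) {a b : G} (ha : a ∈ A)
    (hb : b ∈ A) :
    ∃ m : ℕ, (∀ u ∈ H a, (a * u) ^ m = a) ∧ (∀ v ∈ H b, (b * v) ^ m = b) := by
  set Ca := L ⊓ Subgroup.centralizer ({a} : Set G) with hCa
  set Cb := L ⊓ Subgroup.centralizer ({b} : Set G) with hCb
  have hcop : Nat.Coprime (Nat.card Ca * Nat.card Cb) (Nat.card (H a) * Nat.card (H b)) :=
    Nat.Coprime.mul_left
      (Nat.Coprime.mul_right (hD.coprime a ha a ha).symm (hD.coprime b hb a ha).symm)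
      (Nat.Coprime.mul_right (hD.coprime a ha b hb).symm (hD.coprime b hb b hb).symm)
  obtain ⟨m, hm1, hm0⟩ := Nat.chineseRemainder hcop 1 0
  have key : ∀ c : G, c ∈ A → Nat.card ↥(L ⊓ Subgroup.centralizer ({c} : Set G)) ∣
      Nat.card Ca * Nat.card Cb → Nat.card (H c) ∣ Nat.card (H a) * Nat.card (H b) →
      ∀ u ∈ H c, (c * u) ^ m = c := by
    intro c hc hdC hdH u hu
    have h1 : orderOf c ∣ Nat.card Ca * Nat.card Cb :=
      (Subgroup.orderOf_dvd_natCard _ (mem_centralizer_self_of_mem hD hc)).trans hdC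
    have h0 : orderOf u ∣ m :=
      ((Subgroup.orderOf_dvd_natCard _ hu).trans hdH).trans (Nat.modEq_zero_iff_dvd.mp hm0)
    have hcm : c ^ m = c := by
      conv_rhs => rw [← pow_one c]
      exact pow_eq_pow_iff_modEq.mpr (hm1.of_dvd h1)
    rw [(commute_of_mem_H hD hc hu).mul_pow, hcm, orderOf_dvd_iff_pow_eq_one.mp h0, mul_one]
  exact ⟨m, key a ha (dvd_mul_right _ _) (dvd_mul_right _ _),
    key b hb (dvd_mul_left _ _) (dvd_mul_left _ _)⟩

theorem eq_of_conj_coset [Finite G] (hD : Cfsg.DadeHypothesis A L H) {a b u v g : G} (ha : a ∈ A)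
    (hb : b ∈ A) (hu : u ∈ H a) (hv : v ∈ H b) (h : g * (a * u) * g⁻¹ = b * v) :
    g * a * g⁻¹ = b := by
  obtain ⟨m, hma, hmb⟩ := exists_pow_split hD ha hb
  have := congrArg (· ^ m) h
  simp only [conj_pow] at this
  rwa [hma u hu, hmb v hv] at this

theorem exists_conj_of_conj_coset [Finite G] (hD : Cfsg.DadeHypothesis A L H) {a b u v g : G}
    (ha : a ∈ A) (hb : b ∈ A) (hu : u ∈ H a) (hv : v ∈ H b)
    (h : g * (a * u) * g⁻¹ = b * v) : ∃ x ∈ L, x * a * x⁻¹ = b := by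
  have he := eq_of_conj_coset hD ha hb hu hv h
  obtain ⟨x, hx, hxe⟩ := hD.fusion a ha g (he ▸ hb)
  exact ⟨x, hx, hxe.trans he⟩

/-- A subgroup of the centraliser of order prime to the complement lies in `H a`. -/
theorem le_H_of_coprime (hD : Cfsg.DadeHypothesis A L H) {a : G} (ha : a ∈ A) {K : Subgroup G}
    (hK : K ≤ Subgroup.centralizer ({a} : Set G))
    (hcop : Nat.Coprime (Nat.card K) (Nat.card ↥(L ⊓ Subgroup.centralizer ({a} : Set G)))) :
    K ≤ H a := by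
  intro k hk
  set B := L ⊓ Subgroup.centralizer ({a} : Set G) with hB
  have hBn : B ≤ Subgroup.normalizer (H a : Set G) := by
    intro c hc
    rw [Subgroup.mem_normalizer_iff]
    intro u
    refine ⟨hD.conj_mem_H a ha c hc.2 u, fun h => ?_⟩
    have := hD.conj_mem_H a ha c⁻¹ (inv_mem hc.2) _ h
    simpa [mul_assoc] using this
  have hkC : k ∈ H a ⊔ B := by rw [hB, hD.sup_eq a ha]; exact hK hk
  rw [← SetLike.mem_coe, Subgroup.coe_mul_of_right_le_normalizer_left _ _ hBn] at hkC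
  obtain ⟨n, hn, b, hb, rfl⟩ := hkC
  have hpow : ∀ i : ℕ, (n * b) ^ i * (b ^ i)⁻¹ ∈ H a := by
    intro i
    induction i with
    | zero => simp
    | succ i ih =>
      have h2 : b ^ i * n * (b ^ i)⁻¹ ∈ H a :=
        hD.conj_mem_H a ha _ (pow_mem hb.2 i) n hn
      have h3 := mul_mem ih h2
      rw [pow_succ (n * b), pow_succ b]
      simpa [mul_assoc] using h3
  have h1 : (n * b) ^ Nat.card K = 1 :=
    orderOf_dvd_iff_pow_eq_one.mp (Subgroup.orderOf_dvd_natCard _ hk)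
  have h2 := hpow (Nat.card K)
  rw [h1, one_mul, inv_mem_iff] at h2
  have h3 : b ^ Nat.card K = 1 :=
    eq_one_of_mem_H_of_mem hD ha h2 (pow_mem hb.1 _)
  have h4 : orderOf b = 1 := Nat.eq_one_of_dvd_coprimes hcop
    (orderOf_dvd_iff_pow_eq_one.mpr h3) (Subgroup.orderOf_dvd_natCard _ hb)
  rw [orderOf_eq_one_iff] at h4
  simpa [h4] using hn

theorem H_conj_le (hD : Cfsg.DadeHypothesis A L H) {a x : G} (ha : a ∈ A) (hx : x ∈ L) :
    (H a).map (MulAut.conj x).toMonoidHom ≤ H (x * a * x⁻¹) := by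
  have hb := hD.conj_mem x hx a ha
  refine le_H_of_coprime hD hb ?_ ?_
  · rintro _ ⟨u, hu, rfl⟩
    rw [Subgroup.mem_centralizer_singleton_iff]
    have := (commute_of_mem_H hD ha hu).eq
    simp only [MulEquiv.coe_toMonoidHom, MulAut.conj_apply]
    calc x * u * x⁻¹ * (x * a * x⁻¹) = x * (u * a) * x⁻¹ := by group
      _ = x * (a * u) * x⁻¹ := by rw [this]
      _ = _ := by group
  · rw [Subgroup.card_map_of_injective (MulEquiv.injective _)]
    exact hD.coprime a ha _ hb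

theorem H_conj (hD : Cfsg.DadeHypothesis A L H) {a x : G} (ha : a ∈ A) (hx : x ∈ L) :
    H (x * a * x⁻¹) = (H a).map (MulAut.conj x).toMonoidHom := by
  refine le_antisymm ?_ (H_conj_le hD ha hx)
  intro v hv
  have h := H_conj_le hD (hD.conj_mem x hx a ha) (inv_mem hx) ⟨v, hv, rfl⟩
  refine ⟨x⁻¹ * v * x, ?_, by simp [mul_assoc]⟩
  simpa [mul_assoc] using h

theorem conj_mem_H_conj (hD : Cfsg.DadeHypothesis A L H) {a x u : G} (ha : a ∈ A) (hx : x ∈ L)
    (hu : u ∈ H a) : x * u * x⁻¹ ∈ H (x * a * x⁻¹) := by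
  rw [H_conj hD ha hx]; exact ⟨u, hu, rfl⟩

theorem card_H_conj (hD : Cfsg.DadeHypothesis A L H) {a x : G} (ha : a ∈ A) (hx : x ∈ L) :
    Nat.card (H (x * a * x⁻¹)) = Nat.card (H a) := by
  rw [H_conj hD ha hx, Subgroup.card_map_of_injective (MulEquiv.injective _)]

/-- The Dade support: elements conjugate into some coset `a * H a`. -/
def support (A : Set G) (H : G → Subgroup G) : Set G :=
  {g : G | ∃ a ∈ A, ∃ u ∈ H a, ∃ x : G, x * g * x⁻¹ = a * u}

theorem mem_support_conj {g : G} (h : g ∈ support A H) (y : G) : y * g * y⁻¹ ∈ support A H := by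
  obtain ⟨a, ha, u, hu, x, hx⟩ := h
  exact ⟨a, ha, u, hu, x * y⁻¹, by rw [← hx]; group⟩

theorem mem_support_conj_iff {g : G} (y : G) : y * g * y⁻¹ ∈ support A H ↔ g ∈ support A H := by
  refine ⟨fun h => ?_, fun h => mem_support_conj h y⟩
  simpa [mul_assoc] using mem_support_conj h y⁻¹

theorem dadeIsometry_apply [Finite G] (hD : Cfsg.DadeHypothesis A L H) {α : L → ℂ}
    (hα : Cfsg.IsClassFunction L α) (a : L) (ha : (a : G) ∈ A) {u g x : G} (hu : u ∈ H (a : G))
    (hg : x * g * x⁻¹ = (a : G) * u) : Cfsg.dadeIsometry A L H α g = α a := by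
  have hex : ∃ a : L, (a : G) ∈ A ∧ ∃ x : G, ∃ u ∈ H (a : G), x * g * x⁻¹ = (a : G) * u :=
    ⟨a, ha, x, u, hu, hg⟩
  unfold Cfsg.dadeIsometry
  rw [dif_pos hex]
  obtain ⟨hb, x', u', hu', hg'⟩ := Classical.choose_spec hex
  obtain ⟨y, hy, hye⟩ := exists_conj_of_conj_coset hD (g := x' * x⁻¹) ha hb hu hu'
    (by rw [← hg, ← hg']; group)
  have : Classical.choose hex = (⟨y, hy⟩ : L) * a * (⟨y, hy⟩ : L)⁻¹ := Subtype.ext hye.symm
  rw [this, hα]

theorem dadeIsometry_eq_zero (hD : Cfsg.DadeHypothesis A L H) {α : L → ℂ} {g : G}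
    (hg : g ∉ support A H) : Cfsg.dadeIsometry A L H α g = 0 := by
  unfold Cfsg.dadeIsometry
  rw [dif_neg]
  rintro ⟨a, ha, x, u, hu, h⟩
  exact hg ⟨a, ha, u, hu, x, h⟩

theorem dadeIsometry_isClassFunction [Finite G] (hD : Cfsg.DadeHypothesis A L H) {α : L → ℂ}
    (hα : Cfsg.IsClassFunction L α) : Cfsg.IsClassFunction G (Cfsg.dadeIsometry A L H α) := by
  intro g y
  by_cases hg : g ∈ support A H
  · obtain ⟨a, ha, u, hu, x, hx⟩ := hg
    rw [dadeIsometry_apply hD hα ⟨a, hD.subset ha⟩ ha hu hx,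
      dadeIsometry_apply hD hα ⟨a, hD.subset ha⟩ ha (x := x * y⁻¹) hu (by rw [← hx]; group)]
  · rw [dadeIsometry_eq_zero hD hg,
      dadeIsometry_eq_zero hD (fun h => hg ((mem_support_conj_iff y).mp h))]

open Classical in
/-- Double counting over the Dade support. -/
theorem sum_support [Fintype G] (hD : Cfsg.DadeHypothesis A L H) [Fintype L]
    {K : Type*} [Field K] [CharZero K] (f : G → K) (hf : ∀ g x : G, f (x * g * x⁻¹) = f g)
    (h0 : ∀ g, g ∉ support A H → f g = 0) :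
    (Nat.card G : K)⁻¹ * ∑ g : G, f g = (Nat.card L : K)⁻¹ *
      ∑ a ∈ Finset.univ.filter (fun a : L => (a : G) ∈ A),
        (Nat.card (H (a : G)) : K)⁻¹ * ∑ u : H (a : G), f ((a : G) * u) := by
  let w : (Σ a : {a : L // (a : G) ∈ A}, G × H ((a : L) : G)) → K :=
    fun σ => (Nat.card (H ((σ.1 : L) : G)) : K)⁻¹
  let π : (Σ a : {a : L // (a : G) ∈ A}, G × H ((a : L) : G)) → G :=
    fun σ => σ.2.1 * (((σ.1 : L) : G) * σ.2.2) * σ.2.1⁻¹
  have hfib : ∀ g ∈ support A H,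
      ∑ σ ∈ Finset.univ.filter (fun σ => π σ = g), w σ = (Nat.card L : K) := by
    rintro g ⟨a0, ha0, u0, hu0, x0, hx0⟩
    have hconjA : ∀ y : L, ((y : G) * a0 * (y : G)⁻¹) ∈ A :=
      fun y => hD.conj_mem y y.2 a0 ha0
    have hwC : ∀ w' : H a0, (w' : G)⁻¹ * a0 * w' = a0 := fun w' => by
      rw [mul_assoc, (commute_of_mem_H hD ha0 w'.2).eq]; simp [mul_assoc]
    have hu' : ∀ (y : L) (w' : H a0),
        (y : G) * ((w' : G)⁻¹ * u0 * w') * (y : G)⁻¹ ∈ H ((y : G) * a0 * (y : G)⁻¹) :=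
      fun y w' => conj_mem_H_conj hD ha0 y.2 (mul_mem (mul_mem (inv_mem w'.2) hu0) w'.2)
    let i : L × H a0 → (Σ a : {a : L // (a : G) ∈ A}, G × H ((a : L) : G)) := fun p =>
      ⟨⟨⟨(p.1 : G) * a0 * (p.1 : G)⁻¹,
          mul_mem (mul_mem p.1.2 (hD.subset ha0)) (inv_mem p.1.2)⟩, hconjA p.1⟩,
        x0⁻¹ * (p.2 : G) * (p.1 : G)⁻¹,
        ⟨(p.1 : G) * ((p.2 : G)⁻¹ * u0 * p.2) * (p.1 : G)⁻¹, hu' p.1 p.2⟩⟩
    have hπ : ∀ p, π (i p) = g := by
      intro p
      have hg : g = x0⁻¹ * (a0 * u0) * x0 := by rw [← hx0]; group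
      have hc : (p.2 : G) * a0 = a0 * p.2 := ((commute_of_mem_H hD ha0 p.2.2).eq).symm
      simp only [π, i]
      rw [hg]
      calc _ = x0⁻¹ * ((p.2 : G) * a0 * (p.2 : G)⁻¹ * u0) * x0 := by group
        _ = _ := by rw [hc]; group
    have hinj : Function.Injective i := by
      intro p p' hpp
      have hx : x0⁻¹ * (p.2 : G) * (p.1 : G)⁻¹ = x0⁻¹ * (p'.2 : G) * (p'.1 : G)⁻¹ :=
        congrArg (fun σ : (Σ a : {a : L // (a : G) ∈ A}, G × H ((a : L) : G)) => σ.2.1) hpp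
      have h2 : (p'.2 : G)⁻¹ * p.2 = (p'.1 : G)⁻¹ * p.1 := by
        have := congrArg (fun t => (p'.2 : G)⁻¹ * x0 * t * (p.1 : G)) hx
        simpa [mul_assoc] using this
      have h3 : (p'.2 : G)⁻¹ * p.2 = 1 := eq_one_of_mem_H_of_mem hD ha0
        (mul_mem (inv_mem p'.2.2) p.2.2) (h2 ▸ mul_mem (inv_mem p'.1.2) p.1.2)
      have h4 : (p'.1 : G)⁻¹ * p.1 = 1 := h2 ▸ h3
      exact Prod.ext (Subtype.ext (inv_mul_eq_one.mp h4).symm)
        (Subtype.ext (inv_mul_eq_one.mp h3).symm)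
    have hsurj : ∀ σ, π σ = g → ∃ p, i p = σ := by
      rintro ⟨⟨⟨a, haL⟩, ha⟩, x, u, hu⟩ hσ
      change x * (a * u) * x⁻¹ = g at hσ
      have h1 : (x0 * x) * (a * u) * (x0 * x)⁻¹ = a0 * u0 := by rw [← hx0, ← hσ]; group
      have he := eq_of_conj_coset hD ha ha0 hu hu0 h1
      obtain ⟨y, hy, hye⟩ := exists_conj_of_conj_coset hD ha ha0 hu hu0 h1
      have hc : (x0 * x) * y⁻¹ ∈ Subgroup.centralizer ({a0} : Set G) := by
        rw [Subgroup.mem_centralizer_singleton_iff]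
        calc (x0 * x) * y⁻¹ * a0 = (x0 * x) * a * y⁻¹ := by rw [← hye]; group
          _ = a0 * (x0 * x * y⁻¹) := by rw [← he]; group
      have hBn : L ⊓ Subgroup.centralizer ({a0} : Set G) ≤ Subgroup.normalizer (H a0 : Set G) := by
        intro c hc
        rw [Subgroup.mem_normalizer_iff]
        intro v
        refine ⟨hD.conj_mem_H a0 ha0 c hc.2 v, fun h => ?_⟩
        simpa [mul_assoc] using hD.conj_mem_H a0 ha0 c⁻¹ (inv_mem hc.2) _ h
      rw [← hD.sup_eq a0 ha0, ← SetLike.mem_coe,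
        Subgroup.coe_mul_of_right_le_normalizer_left _ _ hBn] at hc
      obtain ⟨v, hv, l, hl, hvl⟩ := hc
      change v * l = x0 * x * y⁻¹ at hvl
      have hy' : y⁻¹ * l⁻¹ ∈ L := mul_mem (inv_mem hy) (inv_mem hl.1)
      have hxe : x0⁻¹ * v * (y⁻¹ * l⁻¹)⁻¹ = x := by
        calc x0⁻¹ * v * (y⁻¹ * l⁻¹)⁻¹ = x0⁻¹ * (v * l) * y := by group
          _ = x := by rw [hvl]; group
      have hae : (y⁻¹ * l⁻¹) * a0 * (y⁻¹ * l⁻¹)⁻¹ = a := by
        have hlc : l⁻¹ * a0 * l = a0 := by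
          rw [mul_assoc, ← Subgroup.mem_centralizer_singleton_iff.mp hl.2]; group
        calc _ = y⁻¹ * (l⁻¹ * a0 * l) * y := by group
          _ = a := by rw [hlc, ← hye]; group
      refine ⟨(⟨_, hy'⟩, ⟨v, hv⟩), ?_⟩
      have hp := hπ (⟨_, hy'⟩, ⟨v, hv⟩)
      simp only [π, i] at hp
      refine Sigma.ext (Subtype.ext (Subtype.ext hae)) ?_
      simp only [i]
      subst hxe hae
      refine heq_of_eq (Prod.ext rfl (Subtype.ext ?_))
      have := hp.trans hσ.symm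
      simpa using this
    rw [← Finset.sum_bij (s := (Finset.univ : Finset (L × H a0)))
      (f := fun _ => (Nat.card (H a0) : K)⁻¹) (g := w) (fun p _ => i p)]
    · have hne : (Nat.card (H a0) : K) ≠ 0 := Nat.cast_ne_zero.mpr Nat.card_pos.ne'
      rw [Finset.sum_const, Finset.card_univ, Fintype.card_prod, nsmul_eq_mul, Nat.cast_mul,
        Nat.card_eq_fintype_card, Nat.card_eq_fintype_card]
      field_simp
    · intro p _; simp [hπ p]
    · intro p _ p' _ h; exact hinj h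
    · intro σ hσ
      obtain ⟨p, hp⟩ := hsurj σ (by simpa using hσ)
      exact ⟨p, Finset.mem_univ _, hp⟩
    · intro p _
      simp only [w, i]
      rw [card_H_conj hD ha0 p.1.2]
  have h1 : ∑ σ, w σ * f (π σ) = (Nat.card L : K) * ∑ g : G, f g := by
    rw [← Finset.sum_fiberwise Finset.univ π (fun σ => w σ * f (π σ)), Finset.mul_sum]
    refine Finset.sum_congr rfl fun g _ => ?_
    by_cases hg : g ∈ support A H
    · rw [← hfib g hg, Finset.sum_mul]
      exact Finset.sum_congr rfl fun σ hσ => by rw [(Finset.mem_filter.mp hσ).2]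
    · rw [h0 g hg, mul_zero]
      exact Finset.sum_eq_zero fun σ hσ => by rw [(Finset.mem_filter.mp hσ).2, h0 g hg, mul_zero]
  have h2 : ∑ σ, w σ * f (π σ) = (Nat.card G : K) *
      ∑ a ∈ Finset.univ.filter (fun a : L => (a : G) ∈ A),
        (Nat.card (H (a : G)) : K)⁻¹ * ∑ u : H (a : G), f ((a : G) * u) := by
    rw [Finset.mul_sum, Fintype.sum_sigma]
    rw [Finset.sum_subtype (p := fun a : L => (a : G) ∈ A) _ (by simp)]
    refine Finset.sum_congr rfl fun a _ => ?_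
    simp only [w, π, hf, Fintype.sum_prod_type, Finset.mul_sum]
    refine Finset.sum_comm.trans (Finset.sum_congr rfl fun u _ => ?_)
    rw [Finset.sum_const, Finset.card_univ, nsmul_eq_mul, Nat.card_eq_fintype_card (α := G)]
  rw [h1] at h2
  have hG : (Nat.card G : K) ≠ 0 := Nat.cast_ne_zero.mpr Nat.card_pos.ne'
  have hL : (Nat.card L : K) ≠ 0 := Nat.cast_ne_zero.mpr Nat.card_pos.ne'
  rw [inv_mul_eq_iff_eq_mul₀ hG, ← mul_assoc, mul_comm (Nat.card G : K), mul_assoc,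
    eq_inv_mul_iff_mul_eq₀ hL]
  exact h2

open Classical in
theorem classInner_dade [Fintype G] [Fintype L] (hD : Cfsg.DadeHypothesis A L H) {α : L → ℂ}
    (hα : Cfsg.IsClassFunction L α) (hαA : ∀ x : L, (x : G) ∉ A → α x = 0) (χ : G → ℂ)
    (ψ : L → ℂ) (hχ : Cfsg.IsClassFunction G χ)
    (hψ : ∀ a : L, (a : G) ∈ A →
      ψ a = (Nat.card (H a) : ℂ)⁻¹ * ∑ u : H (a : G), χ ((a : G) * u)) :
    Cfsg.classInner (Cfsg.dadeIsometry A L H α) χ = Cfsg.classInner α ψ := by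
  unfold Cfsg.classInner
  rw [sum_support hD (fun g => Cfsg.dadeIsometry A L H α g * conj (χ g))
    (fun g x => by rw [dadeIsometry_isClassFunction hD hα g x, hχ g x])
    (fun g hg => by rw [dadeIsometry_eq_zero hD hg, zero_mul])]
  congr 1
  rw [Finset.sum_filter]
  refine Finset.sum_congr rfl fun a _ => ?_
  split_ifs with ha
  · rw [hψ a ha, map_mul, map_inv₀, map_natCast, map_sum, Finset.mul_sum, Finset.mul_sum,
      Finset.mul_sum]
    refine Finset.sum_congr rfl fun u _ => ?_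
    rw [dadeIsometry_apply hD hα a ha u.2 (x := 1) (g := (a : G) * u) (by simp)]
    ring
  · rw [hαA a ha, zero_mul]

theorem finsum_mem_subgroup {M : Type*} [AddCommMonoid M] (K : Subgroup G) [Fintype K] (f : G → M) :
    ∑ᶠ u ∈ (K : Set G), f u = ∑ u : K, f u := by
  rw [← finsum_subtype_eq_finsum_cond (p := fun u => u ∈ (K : Set G))]
  exact finsum_eq_sum_of_fintype _

end Cfsg.Agent.Dade
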