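import Cfsg.Agent.Lib.Dade.Basic
import Cfsg.Agent.Lib.Char.Virtual
import Cfsg.Agent.S1496

/-!
The Dade image of a generalized character is a generalized character (Dade, Peterfalvi 2.6).

`dade_eq_alternating_sum`: the inclusion-exclusion formula
`α^τ = - ∑_{B} (-1)^|B| [N_L(B) : L] Ind_{H(B) N_L(B)} α_B`.
* `dadeIsometry_isGeneralized`
-/
set_option autoImplicit false

namespace Cfsg.Agent.Dade

open Cfsg Cfsg.Agent.Char
open scoped Pointwise

variable {G : Type*} [Group G] {A : Set G} {L : Subgroup G} {H : G → Subgroup G}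

/-- The intersection of the `H b`, `b ∈ B`. -/
def interH (H : G → Subgroup G) (B : Finset L) : Subgroup G := ⨅ b ∈ B, H (b : G)

theorem mem_interH {B : Finset L} {k : G} : k ∈ interH H B ↔ ∀ b ∈ B, k ∈ H (b : G) := by
  simp [interH, Subgroup.mem_iInf]

open Classical in
/-- The stabiliser of a set of elements of `L` under conjugation. -/
noncomputable def normB (B : Finset L) : Subgroup L where
  carrier := {x | B.image (fun b => x * b * x⁻¹) = B}
  one_mem' := by simp
  mul_mem' {x y} hx hy := by
    simp only [Set.mem_ofPred_eq] at hx hy ⊢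
    conv_rhs => rw [← hx, ← hy, Finset.image_image]
    exact Finset.image_congr fun b _ => by simp [mul_assoc]
  inv_mem' {x} hx := by
    simp only [Set.mem_ofPred_eq] at hx ⊢
    conv_lhs => rw [← hx, Finset.image_image]
    conv_rhs => rw [← Finset.image_id (s := B)]
    exact Finset.image_congr fun b _ => by simp [mul_assoc]

open Classical in
theorem mem_normB {B : Finset L} {x : L} :
    x ∈ normB B ↔ B.image (fun b => x * b * x⁻¹) = B := Iff.rfl

theorem conj_mem_of_normB {B : Finset L} {x : L} (hx : x ∈ normB B) {b : L} (hb : b ∈ B) :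
    x * b * x⁻¹ ∈ B := by
  classical
  exact (mem_normB.mp hx) ▸ Finset.mem_image_of_mem (fun b => x * b * x⁻¹) hb

/-- `M(B) = H(B) N_L(B)`. -/
noncomputable def subM (H : G → Subgroup G) (B : Finset L) : Subgroup G :=
  interH H B ⊔ (normB B).map L.subtype

variable (hD : Cfsg.DadeHypothesis A L H)
include hD

theorem normB_le_normalizer {B : Finset L} (hB : ∀ b ∈ B, (b : G) ∈ A) :
    (normB B).map L.subtype ≤ Subgroup.normalizer (interH H B : Set G) := by
  have key : ∀ x ∈ normB B, ∀ k ∈ interH H B, (x : G) * k * (x : G)⁻¹ ∈ interH H B := by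
    intro x hx k hk
    rw [mem_interH] at hk ⊢
    intro b hb
    have hb' := conj_mem_of_normB ((normB B).inv_mem hx) hb
    have := conj_mem_H_conj hD (hB _ hb') x.2 (hk _ hb')
    simpa [mul_assoc] using this
  rintro _ ⟨x, hx, rfl⟩
  rw [Subgroup.mem_normalizer_iff]
  intro k
  refine ⟨key x hx k, fun h => ?_⟩
  simpa [mul_assoc] using key x⁻¹ ((normB B).inv_mem hx) _ h

theorem subM_unique {B : Finset L} (hB : ∀ b ∈ B, (b : G) ∈ A) (hne : B.Nonempty) {k k' : G} {n n' : L}
    (hk : k ∈ interH H B) (hk' : k' ∈ interH H B) (h : k * n = k' * n') : k = k' ∧ n = n' := by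
  obtain ⟨b, hb⟩ := hne
  have h1 : k'⁻¹ * k = ((n' * n⁻¹ : L) : G) := by
    rw [Subgroup.coe_mul, Subgroup.coe_inv, eq_mul_inv_iff_mul_eq, mul_assoc, h, inv_mul_cancel_left]
  have h2 : k'⁻¹ * k = 1 := eq_one_of_mem_H_of_mem hD (hB b hb)
    (mul_mem (inv_mem (mem_interH.mp hk' b hb)) (mem_interH.mp hk b hb)) (h1 ▸ (n' * n⁻¹).2)
  have hkk := (inv_mul_eq_one.mp h2).symm
  refine ⟨hkk, Subtype.ext ?_⟩
  rw [hkk] at h
  exact mul_left_cancel h

theorem mem_subM {B : Finset L} (hB : ∀ b ∈ B, (b : G) ∈ A) {g : G} :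
    g ∈ subM H B ↔ ∃ k ∈ interH H B, ∃ n ∈ normB B, k * (n : G) = g := by
  rw [subM, ← SetLike.mem_coe,
    Subgroup.coe_mul_of_right_le_normalizer_left _ _ (normB_le_normalizer hD hB)]
  constructor
  · rintro ⟨k, hk, _, ⟨n, hn, rfl⟩, rfl⟩
    exact ⟨k, hk, n, hn, rfl⟩
  · rintro ⟨k, hk, n, hn, rfl⟩
    exact ⟨k, hk, _, ⟨n, hn, rfl⟩, rfl⟩

theorem exists_proj {B : Finset L} (hB : ∀ b ∈ B, (b : G) ∈ A) (hne : B.Nonempty) :
    ∃ π : ↥(subM H B) →* L, ∀ m : ↥(subM H B),
      π m ∈ normB B ∧ (m : G) * (π m : G)⁻¹ ∈ interH H B := by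
  choose kf hk nf hn he using fun m : ↥(subM H B) => (mem_subM hD hB).mp m.2
  refine ⟨MonoidHom.mk' nf fun m m' => ?_, fun m => ⟨hn m, ?_⟩⟩
  · refine (subM_unique hD hB hne (hk (m * m'))
      (mul_mem (hk m) ((Subgroup.mem_normalizer_iff.mp
        (normB_le_normalizer hD hB ⟨nf m, hn m, rfl⟩) (kf m')).mp (hk m'))) ?_).2
    rw [he, Subgroup.coe_mul, ← he m, ← he m']
    simp [mul_assoc]
  · show (m : G) * (nf m : G)⁻¹ ∈ _
    conv => arg 2; rw [← he m]
    simpa [mul_assoc] using hk m

open Classical in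
theorem interH_inf {B : Finset L} (hB : ∀ b ∈ B, (b : G) ∈ A) (hne : B.Nonempty) {a : L}
    (ha : (a : G) ∈ A) (c : G) :
    c ∈ interH H (insert a B) ↔ c ∈ interH H B ∧ c * (a : G) = (a : G) * c := by
  obtain ⟨b, hb⟩ := hne
  constructor
  · intro h
    rw [mem_interH] at h
    exact ⟨mem_interH.mpr fun b hb => h b (Finset.mem_insert_of_mem hb),
      (commute_of_mem_H hD ha (h a (Finset.mem_insert_self a B))).eq.symm⟩
  · rintro ⟨h, hc⟩
    rw [mem_interH] at h ⊢
    intro x hx
    rcases Finset.mem_insert.mp hx with rfl | hx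
    · refine le_H_of_coprime hD ha (Subgroup.zpowers_le.mpr
        (Subgroup.mem_centralizer_singleton_iff.mpr hc)) ?_ (Subgroup.mem_zpowers c)
      exact (hD.coprime _ (hB b hb) _ ha).coprime_dvd_left
        (Subgroup.card_dvd_of_le (Subgroup.zpowers_le.mpr (h b hb)))
    · exact h x hx

open Classical in
/-- Summing a class function over the coset `K a`. -/
theorem sum_coset [Fintype G] {B : Finset L} (hB : ∀ b ∈ B, (b : G) ∈ A) (hne : B.Nonempty) {a : L}
    (ha : (a : G) ∈ A) (han : a ∈ normB B) (f : G → ℂ) (hf : ∀ y z : G, f (z * y * z⁻¹) = f y) :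
    (Nat.card (interH H B) : ℂ)⁻¹ * ∑ k : interH H B, f ((k : G) * a) =
      (Nat.card (interH H (insert a B)) : ℂ)⁻¹ * ∑ c : interH H (insert a B), f ((c : G) * a) := by
  obtain ⟨b, hb⟩ := hne
  set K := interH H B
  set K' := interH H (insert a B) with hK'
  have hK'K : ∀ c : G, c ∈ K' → c ∈ K := fun c hc => ((interH_inf hD hB ⟨b, hb⟩ ha c).mp hc).1
  have hanK : (a : G) ∈ Subgroup.normalizer (K : Set G) := normB_le_normalizer hD hB ⟨a, han, rfl⟩
  have hmem : ∀ (k : G), k ∈ K → ∀ c ∈ K', k * (c * a) * k⁻¹ * (a : G)⁻¹ ∈ K := by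
    intro k hk c hc
    rw [show k * (c * a) * k⁻¹ * (a : G)⁻¹ = k * c * ((a : G) * k⁻¹ * (a : G)⁻¹) by group]
    exact mul_mem (mul_mem hk (hK'K c hc))
      ((Subgroup.mem_normalizer_iff.mp hanK _).mp (inv_mem hk))
  let i : K × K' → K := fun p => ⟨_, hmem p.1 p.1.2 p.2 p.2.2⟩
  have hfib : ∀ y : K, (Finset.univ.filter fun p => i p = y).card = Nat.card K' := by
    intro y
    have hcop : Nat.Coprime (orderOf (a : G)) (Nat.card K) :=
      ((hD.coprime _ (hB b hb) _ ha).coprime_dvd_left
        (Subgroup.card_dvd_of_le (fun k hk => mem_interH.mp hk b hb))).symm.coprime_dvd_left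
        (Subgroup.orderOf_dvd_natCard _ (mem_centralizer_self_of_mem hD ha))
    obtain ⟨x, hx, c0, hc0, hcc, hxy⟩ := Cfsg.Agent.S1496.result K (a : G) hanK hcop (y : G) y.2
    have hc0' : c0 ∈ K' := (interH_inf hD hB ⟨b, hb⟩ ha c0).mpr ⟨hc0, hcc⟩
    have hself : ∀ c ∈ K', c * (a : G) = a * c := fun c hc => ((interH_inf hD hB ⟨b, hb⟩ ha c).mp hc).2
    rw [Nat.card_eq_fintype_card, ← Finset.card_univ]
    symm
    refine Finset.card_bij (fun d _ => ((⟨x⁻¹, inv_mem hx⟩ : K) * ⟨(d : G), hK'K d d.2⟩,
      (d⁻¹ * ⟨c0, hc0'⟩ * d : K'))) ?_ ?_ ?_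
    · intro d _
      refine Finset.mem_filter.mpr ⟨Finset.mem_univ _, Subtype.ext ?_⟩
      simp only [i, Subgroup.coe_mul, Subgroup.coe_inv]
      have hd : (d : G) * a = a * d := hself d d.2
      calc x⁻¹ * d * ((d : G)⁻¹ * c0 * d * a) * (x⁻¹ * d)⁻¹ * (a : G)⁻¹
          = x⁻¹ * c0 * ((d : G) * a) * (d : G)⁻¹ * x * (a : G)⁻¹ := by group
        _ = x⁻¹ * (c0 * a) * x * (a : G)⁻¹ := by rw [hd]; group
        _ = y := by rw [← hxy]; group
    · intro d _ d' _ h
      have := congrArg (fun p : K × K' => (p.1 : G)) h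
      simpa using this
    · rintro ⟨k, c⟩ hp
      have he : (k : G) * ((c : G) * a) * (k : G)⁻¹ * (a : G)⁻¹ = y := by
        simpa [i] using congrArg Subtype.val (Finset.mem_filter.mp hp).2
      have hconj : (x * k) * ((c : G) * a) * (x * k)⁻¹ = c0 * a := by
        rw [← hxy, ← he]; group
      have hcH : (c : G) ∈ H (a : G) := mem_interH.mp c.2 a (Finset.mem_insert_self a B)
      have hc0H : c0 ∈ H (a : G) := mem_interH.mp hc0' a (Finset.mem_insert_self a B)
      have hxa := eq_of_conj_coset hD ha ha hcH hc0H (g := x * k)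
        (by rw [← hself c c.2, hconj, hself c0 hc0'])
      have hd : x * (k : G) ∈ K' := (interH_inf hD hB ⟨b, hb⟩ ha _).mpr
        ⟨mul_mem hx k.2, mul_inv_eq_iff_eq_mul.mp hxa⟩
      refine ⟨⟨x * k, hd⟩, Finset.mem_univ _, Prod.ext (Subtype.ext (by simp)) (Subtype.ext ?_)⟩
      simp only [Subgroup.coe_mul, Subgroup.coe_inv]
      have h3 : (x * k) * (c : G) * (x * k)⁻¹ = c0 := by
        have h4 : (x * k) * (c : G) * (x * k)⁻¹ * ((x * k) * (a : G) * (x * k)⁻¹) = c0 * a := by
          rw [← hconj]; group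
        rw [hxa] at h4
        exact mul_right_cancel h4
      rw [← h3]; group
  have hsum : ∑ p : K × K', f (((i p : K) : G) * a) = (Nat.card K' : ℂ) * ∑ k : K, f ((k : G) * a) := by
    rw [← Finset.sum_fiberwise Finset.univ i, Finset.mul_sum]
    refine Finset.sum_congr rfl fun y _ => ?_
    rw [Finset.sum_congr rfl (g := fun _ => f ((y : G) * a))
      (fun p hp => by rw [(Finset.mem_filter.mp hp).2]), Finset.sum_const, hfib, nsmul_eq_mul]
  have hsum' : ∑ p : K × K', f (((i p : K) : G) * a) = (Nat.card K : ℂ) * ∑ c : K', f ((c : G) * a) := by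
    have : ∀ p : K × K', f (((i p : K) : G) * a) = f ((p.2 : G) * a) := fun p => by
      rw [← hf ((p.2 : G) * a) (p.1 : G)]
      simp only [i, inv_mul_cancel_right]
    rw [Fintype.sum_congr _ _ this, Fintype.sum_prod_type, Finset.mul_sum]
    refine Finset.sum_comm.trans (Finset.sum_congr rfl fun c _ => ?_)
    simp only
    rw [Finset.sum_const, Finset.card_univ, nsmul_eq_mul, Nat.card_eq_fintype_card]
  rw [hsum] at hsum'
  have h1 : (Nat.card K : ℂ) ≠ 0 := Nat.cast_ne_zero.mpr Nat.card_pos.ne'
  have h2 : (Nat.card K' : ℂ) ≠ 0 := Nat.cast_ne_zero.mpr Nat.card_pos.ne'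
  field_simp
  linear_combination hsum'

open Classical in
/-- The function on `M(B)` inflated from `α`, induced to `G`. -/
noncomputable def blockFun [Fintype G] (α : L → ℂ) (B : Finset L) : G → ℂ :=
  if h : (∀ b ∈ B, (b : G) ∈ A) ∧ B.Nonempty then
    indFun (subM H B) (fun m => α (Classical.choose (exists_proj hD h.1 h.2) m)) else 0

open Classical in
theorem blockFun_apply [Fintype G] {α : L → ℂ} (hαA : ∀ x : L, (x : G) ∉ A → α x = 0)
    {B : Finset L} (hB : ∀ b ∈ B, (b : G) ∈ A) (hne : B.Nonempty) (g : G) :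
    (Nat.card (normB B) : ℂ) * blockFun hD α B g =
      ∑ a ∈ Finset.univ.filter (fun a : L => (a : G) ∈ A ∧ a ∈ normB B),
        α a * ((Nat.card (interH H B) : ℂ)⁻¹ * ∑ k : interH H B,
          ((Finset.univ.filter fun x : G => x⁻¹ * g * x = (k : G) * a).card : ℂ)) := by
  have hh : (∀ b ∈ B, (b : G) ∈ A) ∧ B.Nonempty := ⟨hB, hne⟩
  rw [blockFun, dif_pos hh]
  have hπ := Classical.choose_spec (exists_proj hD hh.1 hh.2)
  generalize Classical.choose (exists_proj hD hh.1 hh.2) = π at hπ ⊢
  have hbij : Function.Bijective (fun p : interH H B × normB B =>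
      (⟨(p.1 : G) * ((p.2 : L) : G), (mem_subM hD hB).mpr ⟨p.1, p.1.2, p.2, p.2.2, rfl⟩⟩ : (subM H B))) := by
    constructor
    · intro p q h
      obtain ⟨h1, h2⟩ := subM_unique hD hB hne p.1.2 q.1.2 (congrArg Subtype.val h)
      exact Prod.ext (Subtype.ext h1) (Subtype.ext h2)
    · intro m
      obtain ⟨k, hk, n, hn, he⟩ := (mem_subM hD hB).mp m.2
      exact ⟨(⟨k, hk⟩, ⟨n, hn⟩), Subtype.ext he⟩
  have hcardM : Nat.card (subM H B) = Nat.card (interH H B) * Nat.card (normB B) := by
    rw [← Nat.card_prod]; exact (Nat.card_eq_of_bijective _ hbij).symm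
  have hext : ∀ x : G, extendByZero (subM H B) (fun m => α (π m)) (x⁻¹ * g * x) =
      ∑ a ∈ Finset.univ.filter (fun a : L => (a : G) ∈ A ∧ a ∈ normB B),
        α a * ∑ k : interH H B, if x⁻¹ * g * x = (k : G) * a then 1 else 0 := by
    intro x
    set y := x⁻¹ * g * x
    by_cases hy : y ∈ (subM H B)
    · rw [extendByZero_mem (subM H B) _ hy]
      obtain ⟨hn, hk⟩ := hπ ⟨y, hy⟩
      have hkn : y = (⟨_, hk⟩ : interH H B) * (π ⟨y, hy⟩ : G) := by simp
      have huniq : ∀ (a : L) (k : interH H B), y = (k : G) * a → a = π ⟨y, hy⟩ ∧ (k : G) = y * (π ⟨y, hy⟩ : G)⁻¹ := by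
        intro a k h
        obtain ⟨h1, h2⟩ := subM_unique hD hB hne k.2 hk (n := a) (n' := π ⟨y, hy⟩) (h.symm.trans hkn)
        exact ⟨h2, h1⟩
      by_cases hπA : (π ⟨y, hy⟩ : G) ∈ A
      · rw [Finset.sum_eq_single (π ⟨y, hy⟩)]
        · rw [Finset.sum_eq_single ⟨_, hk⟩, if_pos hkn, mul_one]
          · intro k _ hne'
            exact if_neg fun h => hne' (Subtype.ext (huniq _ k h).2)
          · simp
        · intro a _ hne'
          rw [Finset.sum_eq_zero fun k _ => if_neg fun h => hne' (huniq a k h).1, mul_zero]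
        · intro h
          exact absurd (Finset.mem_filter.mpr ⟨Finset.mem_univ _, hπA, hn⟩) h
      · rw [hαA _ hπA]
        symm
        refine Finset.sum_eq_zero fun a ha => ?_
        rw [Finset.sum_eq_zero fun k _ => if_neg fun h => hπA ((huniq a k h).1 ▸
          (Finset.mem_filter.mp ha).2.1), mul_zero]
    · rw [extendByZero_not_mem (subM H B) _ hy]
      symm
      refine Finset.sum_eq_zero fun a ha => ?_
      rw [Finset.sum_eq_zero fun (k : interH H B) _ => if_neg fun (h : y = (k : G) * (a : G)) =>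
        hy ((mem_subM hD hB).mpr ⟨k, k.2, a, (Finset.mem_filter.mp ha).2.2, h.symm⟩), mul_zero]
  rw [indFun, hcardM, Nat.cast_mul, Finset.sum_congr rfl fun x _ => hext x, Finset.sum_comm]
  have h1 : (Nat.card (interH H B) : ℂ) ≠ 0 := Nat.cast_ne_zero.mpr Nat.card_pos.ne'
  have h2 : (Nat.card (normB B) : ℂ) ≠ 0 := Nat.cast_ne_zero.mpr Nat.card_pos.ne'
  rw [mul_inv, ← mul_assoc, mul_comm (Nat.card (interH H B) : ℂ)⁻¹, ← mul_assoc,
    mul_inv_cancel₀ h2, one_mul, Finset.mul_sum]
  refine Finset.sum_congr rfl fun a _ => ?_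
  rw [← Finset.mul_sum, Finset.sum_comm]
  simp only [Finset.sum_boole]
  ring

open Classical in
/-- The inclusion-exclusion formula for the Dade map. -/
theorem dade_eq_alternating_sum [Fintype G] {α : L → ℂ} (hα : IsClassFunction L α)
    (hαA : ∀ x : L, (x : G) ∉ A → α x = 0) (g : G) :
    dadeIsometry A L H α g = -((Nat.card L : ℂ)⁻¹ *
      ∑ B ∈ Finset.univ.filter (fun B : Finset L => (∀ b ∈ B, (b : G) ∈ A) ∧ B.Nonempty),
        (-1) ^ B.card * ((Nat.card (normB B) : ℂ) * blockFun hD α B g)) := by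
  set cnt : G → ℂ := fun y => ((Finset.univ.filter fun x : G => x⁻¹ * g * x = y).card : ℂ) with hcnt
  have hcl : ∀ y z : G, cnt (z * y * z⁻¹) = cnt y := by
    intro y z
    simp only [hcnt, Nat.cast_inj]
    refine Finset.card_equiv (Equiv.mulRight z) fun x => ?_
    simp only [Finset.mem_filter, Finset.mem_univ, true_and, Equiv.coe_mulRight]
    constructor
    · intro h
      rw [show (x * z)⁻¹ * g * (x * z) = z⁻¹ * (x⁻¹ * g * x) * z by group, h]; group
    · intro h
      rw [← h]; group
  -- the left hand side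
  have hT : ∀ y, Cfsg.dadeIsometry A L H α y * cnt y = Cfsg.dadeIsometry A L H α g * cnt y := by
    intro y
    by_cases hy : ∃ x : G, x⁻¹ * g * x = y
    · obtain ⟨x, rfl⟩ := hy
      have h := dadeIsometry_isClassFunction hD hα g x⁻¹
      rw [inv_inv] at h
      rw [h]
    · push Not at hy
      simp [hcnt, Finset.filter_false_of_mem fun x _ => hy x]
  have key := sum_support hD (fun y => Cfsg.dadeIsometry A L H α y * cnt y)
    (fun y z => by rw [dadeIsometry_isClassFunction hD hα y z, hcl])
    (fun y hy => by rw [dadeIsometry_eq_zero hD hy, zero_mul])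
  have hsumcnt : ∑ y : G, cnt y = (Nat.card G : ℂ) := by
    simp only [hcnt]
    rw [← Nat.cast_sum, ← Finset.card_eq_sum_card_fiberwise (f := fun x : G => x⁻¹ * g * x) (fun _ _ => Finset.mem_univ _),
      Finset.card_univ, Nat.card_eq_fintype_card]
  have hG : (Nat.card G : ℂ) ≠ 0 := Nat.cast_ne_zero.mpr Nat.card_pos.ne'
  rw [Finset.sum_congr rfl fun y _ => hT y, ← Finset.mul_sum, hsumcnt, ← mul_assoc,
    mul_comm (Nat.card G : ℂ)⁻¹, mul_assoc, inv_mul_cancel₀ hG, mul_one] at key
  rw [key, ← mul_neg]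
  congr 1
  -- expand the blocks and cancel
  have hexp : ∀ B ∈ Finset.univ.filter (fun B : Finset L => (∀ b ∈ B, (b : G) ∈ A) ∧ B.Nonempty),
      (-1) ^ B.card * ((Nat.card (normB B) : ℂ) * blockFun hD α B g) =
        ∑ a ∈ Finset.univ.filter (fun a : L => (a : G) ∈ A),
          if a ∈ normB B then (-1) ^ B.card * (α a * ((Nat.card (interH H (insert a B)) : ℂ)⁻¹ *
            ∑ c : interH H (insert a B), cnt ((c : G) * a))) else 0 := by
    intro B hB
    obtain ⟨hBA, hne⟩ := (Finset.mem_filter.mp hB).2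
    rw [blockFun_apply hD hαA hBA hne g, Finset.mul_sum, ← Finset.sum_filter, Finset.filter_filter]
    refine Finset.sum_congr rfl fun a ha => ?_
    obtain ⟨haA, han⟩ := (Finset.mem_filter.mp ha).2
    rw [← sum_coset hD hBA hne haA han cnt hcl]
  rw [Finset.sum_congr rfl hexp, Finset.sum_comm, ← Finset.sum_neg_distrib]
  refine Finset.sum_congr rfl fun a ha => ?_
  have haA : (a : G) ∈ A := (Finset.mem_filter.mp ha).2
  set F := Finset.univ.filter (fun B : Finset L => (∀ b ∈ B, (b : G) ∈ A) ∧ B.Nonempty)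
  have hBa : ({a} : Finset L) ∈ F := Finset.mem_filter.mpr
    ⟨Finset.mem_univ _, fun b hb => (Finset.mem_singleton.mp hb) ▸ haA, Finset.singleton_nonempty a⟩
  have hfix : a ∈ normB ({a} : Finset L) := by simp [mem_normB]
  rw [← Finset.add_sum_erase _ _ hBa, if_pos hfix, Finset.card_singleton, pow_one]
  have hcancel : (∑ B ∈ F.erase {a}, if a ∈ normB B then (-1) ^ B.card * (α a *
      ((Nat.card (interH H (insert a B)) : ℂ)⁻¹ * ∑ c : interH H (insert a B), cnt ((c : G) * a))) else 0) = 0 := by
    refine Finset.sum_involution (fun B _ => if a ∈ B then B.erase a else insert a B) ?_ ?_ ?_ ?_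
    · intro B hB
      by_cases hmem : a ∈ B
      · have e : insert a (B.erase a) = B := Finset.insert_erase hmem
        have hiff : a ∈ normB (B.erase a) ↔ a ∈ normB B := by
          simp only [mem_normB]
          constructor
          · intro h
            conv_lhs => rw [← e, Finset.image_insert, h]
            simpa using e
          · intro h
            rw [Finset.image_erase (fun x y hxy => by simpa using hxy), h]
            simp
        beta_reduce
        rw [if_pos hmem, e, Finset.insert_eq_of_mem hmem]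
        simp only [hiff]
        split_ifs
        · rw [← Finset.card_erase_add_one hmem, pow_succ, mul_neg_one, neg_mul, neg_add_cancel]
        · exact add_zero _
      · have hiff : a ∈ normB (insert a B) ↔ a ∈ normB B := by
          simp only [mem_normB]
          constructor
          · intro h
            have := congrArg (fun S => Finset.erase S a) h
            rw [Finset.image_insert] at this
            simp only [mul_inv_cancel_right] at this
            have hni : a ∉ B.image fun b => a * b * a⁻¹ := by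
              intro hh
              obtain ⟨b, hb, he⟩ := Finset.mem_image.mp hh
              exact hmem ((show b = a by simpa [mul_inv_eq_iff_eq_mul] using he) ▸ hb)
            rwa [Finset.erase_insert hni, Finset.erase_insert hmem] at this
          · intro h
            rw [Finset.image_insert, h]; simp
        beta_reduce
        rw [if_neg hmem, Finset.insert_eq_of_mem (Finset.mem_insert_self a B)]
        simp only [hiff]
        split_ifs
        · rw [Finset.card_insert_of_notMem hmem, pow_succ, mul_neg_one, neg_mul, add_neg_cancel]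
        · exact add_zero _
    · intro B hB _
      split_ifs with hmem
      · exact fun e => Finset.notMem_erase a B (e.symm ▸ hmem)
      · exact fun e => hmem (e ▸ Finset.mem_insert_self a B)
    · intro B hB
      obtain ⟨hne', hF⟩ := Finset.mem_erase.mp hB
      obtain ⟨hBA, hBne⟩ := (Finset.mem_filter.mp hF).2
      refine Finset.mem_erase.mpr ⟨?_, Finset.mem_filter.mpr ⟨Finset.mem_univ _, ?_, ?_⟩⟩
      · split_ifs with hmem
        · intro e; exact Finset.notMem_erase a B (e.symm ▸ Finset.mem_singleton_self a)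
        · intro e
          obtain ⟨b, hb⟩ := hBne
          have hb' : b ∈ ({a} : Finset L) := e ▸ Finset.mem_insert_of_mem hb
          rw [Finset.mem_singleton] at hb'
          exact hmem (hb' ▸ hb)
      · split_ifs with hmem
        · exact fun b hb => hBA b (Finset.mem_of_mem_erase hb)
        · intro b hb
          rcases Finset.mem_insert.mp hb with rfl | hb
          · exact haA
          · exact hBA b hb
      · split_ifs with hmem
        · rw [Finset.nonempty_iff_ne_empty]
          intro e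
          apply hne'
          rw [← Finset.insert_erase hmem, e, Finset.insert_empty]
        · exact Finset.insert_nonempty a B
    · intro B hB
      split_ifs with h1 h2 h2
      · exact absurd h2 (Finset.notMem_erase a B)
      · exact Finset.insert_erase h1
      · exact Finset.erase_insert h1
      · exact absurd (Finset.mem_insert_self a B) h2
  rw [hcancel, add_zero, show insert a ({a} : Finset L) = {a} by simp]
  have hH : interH H ({a} : Finset L) = H (a : G) := by simp [interH]
  rw [hH]
  simp only [neg_mul, one_mul, neg_neg]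
  rw [Finset.mul_sum, Finset.mul_sum, Finset.mul_sum]
  refine Finset.sum_congr rfl fun u _ => ?_
  have hcu : ((u : G) * a) = (a : G) * u := (commute_of_mem_H hD haA u.2).eq.symm
  rw [hcu, dadeIsometry_apply hD hα a haA u.2 (x := 1) (g := (a : G) * u) (by simp)]
  ring

open Classical in
theorem dadeIsometry_isGeneralized [Fintype G] [Fintype L] {α : L → ℂ}
    (hα : IsGeneralizedCharacter L α) (hαA : ∀ x : L, (x : G) ∉ A → α x = 0) :
    IsGeneralizedCharacter G (dadeIsometry A L H α) := by
  have hαc := IsGeneralizedCharacter.isClassFunction hα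
  set F := Finset.univ.filter (fun B : Finset L => (∀ b ∈ B, (b : G) ∈ A) ∧ B.Nonempty)
  have hgc : ∀ B, IsGeneralizedCharacter G (blockFun hD α B) := by
    intro B
    unfold blockFun
    split_ifs with h
    · exact IsGeneralizedCharacter.indFun (IsGeneralizedCharacter.comp_hom hα _)
    · exact IsGeneralizedCharacter.zero
  set w : Finset L → G → ℂ := fun B => ((-1 : ℂ) ^ B.card * (Nat.card (normB B) : ℂ)) • blockFun hD α B
  -- invariance of the summands along orbits
  let act : L → Finset L → Finset L := fun x B => B.image fun b => x * b * x⁻¹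
  have hact : ∀ x y B, act x (act y B) = act (x * y) B := fun x y B => by
    simp only [act, Finset.image_image]
    exact Finset.image_congr fun b _ => by simp [mul_assoc]
  have hact1 : ∀ B, act 1 B = B := fun B => by simp [act]
  have hactF : ∀ x, ∀ B ∈ F, act x B ∈ F := by
    intro x B hB
    obtain ⟨h1, h2⟩ := (Finset.mem_filter.mp hB).2
    refine Finset.mem_filter.mpr ⟨Finset.mem_univ _, ?_, h2.image _⟩
    intro b hb
    obtain ⟨c, hc, rfl⟩ := Finset.mem_image.mp hb
    simpa using hD.conj_mem x x.2 _ (h1 c hc)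
  have hcardn : ∀ x B, Nat.card (normB (act x B)) = Nat.card (normB B) := by
    intro x B
    refine Nat.card_congr (Equiv.subtypeEquiv (MulAut.conj x⁻¹).toEquiv fun y => ?_)
    simp only [mem_normB]
    show act y (act x B) = act x B ↔ act (x⁻¹ * y * x⁻¹⁻¹) B = B
    rw [inv_inv, hact]
    constructor
    · intro h
      rw [mul_assoc, ← hact x⁻¹ (y * x), h, hact, inv_mul_cancel, hact1]
    · intro h
      conv_rhs => rw [← h, hact]
      congr 1
      group
  have hblock : ∀ x, ∀ B ∈ F, blockFun hD α (act x B) = blockFun hD α B := by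
    intro x B hB
    obtain ⟨h1, h2⟩ := (Finset.mem_filter.mp hB).2
    obtain ⟨h1', h2'⟩ := (Finset.mem_filter.mp (hactF x B hB)).2
    funext g
    have hne : (Nat.card (normB B) : ℂ) ≠ 0 := Nat.cast_ne_zero.mpr Nat.card_pos.ne'
    apply mul_left_cancel₀ hne
    conv_lhs => rw [← hcardn x B]
    rw [blockFun_apply hD hαA h1' h2', blockFun_apply hD hαA h1 h2]
    refine (Finset.sum_equiv (MulAut.conj x).toEquiv ?_ ?_).symm
    · intro a
      simp only [Finset.mem_filter, Finset.mem_univ, true_and, mem_normB, MulEquiv.toEquiv_eq_coe,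
        EquivLike.coe_coe, MulAut.conj_apply]
      show (a : G) ∈ A ∧ act a B = B ↔ _ ∧ act (x * a * x⁻¹) (act x B) = act x B
      rw [hact, inv_mul_cancel_right, ← hact]
      constructor
      · rintro ⟨h, e⟩
        exact ⟨by simpa using hD.conj_mem x x.2 _ h, by rw [e]⟩
      · rintro ⟨h, e⟩
        refine ⟨by simpa [mul_assoc] using hD.conj_mem _ (inv_mem x.2) _ h, ?_⟩
        have := congrArg (act x⁻¹) e
        rwa [hact x⁻¹ x, hact x⁻¹ x, inv_mul_cancel, hact1, hact1] at this
    · intro a ha
      obtain ⟨haA, -⟩ := (Finset.mem_filter.mp ha).2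
      simp only [MulEquiv.toEquiv_eq_coe, EquivLike.coe_coe, MulAut.conj_apply]
      rw [hαc a x]
      congr 1
      have hmap : (interH H B).map (MulAut.conj (x : G)).toMonoidHom = interH H (act x B) := by
        ext k
        constructor
        · rintro ⟨k, hk, rfl⟩
          rw [mem_interH]
          intro b hb
          obtain ⟨c, hc, rfl⟩ := Finset.mem_image.mp hb
          simpa using conj_mem_H_conj hD (h1 c hc) x.2 (mem_interH.mp hk c hc)
        · intro hk
          refine ⟨(x : G)⁻¹ * k * x, mem_interH.mpr fun c hc => ?_, by simp [mul_assoc]⟩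
          have hb : x * c * x⁻¹ ∈ act x B := Finset.mem_image_of_mem _ hc
          have := conj_mem_H_conj hD (h1' _ hb) (inv_mem x.2) (mem_interH.mp hk _ hb)
          simpa [mul_assoc] using this
      rw [← hmap, Subgroup.card_map_of_injective (MulEquiv.injective _)]
      congr 1
      refine Fintype.sum_equiv ((interH H B).equivMapOfInjective _ (MulEquiv.injective _)).toEquiv _ _ fun k => ?_
      simp only [MulEquiv.toEquiv_eq_coe, EquivLike.coe_coe, Subgroup.coe_equivMapOfInjective_apply,
        MulEquiv.coe_toMonoidHom, MulAut.conj_apply, Subgroup.coe_mul, Subgroup.coe_inv, Nat.cast_inj]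
      refine Finset.card_equiv (Equiv.mulRight ((x : G)⁻¹)) fun y => ?_
      refine Finset.mem_filter.trans (Iff.trans ?_ Finset.mem_filter.symm)
      simp only [Finset.mem_univ, true_and]
      show (y⁻¹ * g * y = (k : G) * a) ↔ ((y * (x : G)⁻¹)⁻¹ * g * (y * (x : G)⁻¹) =
        ((x : G) * k * (x : G)⁻¹) * ((x : G) * a * (x : G)⁻¹))
      constructor
      · intro h
        rw [show (y * (x : G)⁻¹)⁻¹ * g * (y * (x : G)⁻¹) = x * (y⁻¹ * g * y) * (x : G)⁻¹ by group, h]
        group
      · intro h
        have := congrArg (fun t => (x : G)⁻¹ * t * x) h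
        simpa [mul_assoc] using this
  -- each orbit contributes an integral multiple
  let orbit : Finset L → Finset (Finset L) := fun B => Finset.univ.image fun x => act x B
  have horbit : ∀ B, (orbit B).card * Nat.card (normB B) = Nat.card L := by
    intro B
    rw [Nat.card_eq_fintype_card (α := L), ← Finset.card_univ,
      Finset.card_eq_sum_card_fiberwise (f := fun x => act x B) (t := orbit B)
        (fun x _ => Finset.mem_image_of_mem _ (Finset.mem_univ x))]
    rw [Finset.sum_congr rfl (g := fun _ => Nat.card (normB B)), Finset.sum_const, smul_eq_mul]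
    intro C hC
    obtain ⟨x, -, rfl⟩ := Finset.mem_image.mp hC
    rw [Nat.card_eq_fintype_card, ← Finset.card_univ]
    symm
    refine Finset.card_bij (fun (n : normB B) _ => x * (n : L)) ?_ ?_ ?_
    · intro n _
      refine Finset.mem_filter.mpr ⟨Finset.mem_univ _, ?_⟩
      rw [← hact, show act (n : L) B = B from n.2]
    · intro n _ n' _ h; exact Subtype.ext (mul_left_cancel h)
    · intro y hy
      have h : act y B = act x B := (Finset.mem_filter.mp hy).2
      refine ⟨⟨x⁻¹ * y, ?_⟩, Finset.mem_univ _, by simp⟩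
      show act (x⁻¹ * y) B = B
      rw [← hact, h, hact, inv_mul_cancel, hact1]
  have heq : dadeIsometry A L H α = -((Nat.card L : ℂ)⁻¹ • ∑ B ∈ F, w B) := by
    funext g
    rw [dade_eq_alternating_sum hD hαc hαA g]
    simp only [Pi.neg_apply, Pi.smul_apply, Finset.sum_apply, smul_eq_mul, w, mul_assoc, F]
    congr!
  rw [heq]
  refine IsGeneralizedCharacter.neg ?_
  have hmaps : ∀ B ∈ F, orbit B ∈ F.image orbit := fun B hB => Finset.mem_image_of_mem _ hB
  rw [← Finset.sum_fiberwise_of_maps_to hmaps, Finset.smul_sum]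
  refine IsGeneralizedCharacter.sum _ fun O hO => ?_
  obtain ⟨B, hB, rfl⟩ := Finset.mem_image.mp hO
  have hfib : F.filter (fun C => orbit C = orbit B) = orbit B := by
    ext C
    constructor
    · intro hC
      rw [← (Finset.mem_filter.mp hC).2]
      exact Finset.mem_image.mpr ⟨1, Finset.mem_univ _, hact1 C⟩
    · intro hC
      obtain ⟨x, -, rfl⟩ := Finset.mem_image.mp hC
      refine Finset.mem_filter.mpr ⟨hactF x B hB, ?_⟩
      ext D
      simp only [orbit, Finset.mem_image, Finset.mem_univ, true_and, hact]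
      exact ⟨fun ⟨y, hy⟩ => ⟨y * x, hy⟩, fun ⟨y, hy⟩ => ⟨y * x⁻¹, by rwa [inv_mul_cancel_right]⟩⟩
  rw [hfib]
  have hconst : ∀ C ∈ orbit B, w C = w B := by
    intro C hC
    obtain ⟨x, -, rfl⟩ := Finset.mem_image.mp hC
    simp only [w]
    rw [hblock x B hB, hcardn, Finset.card_image_of_injective _ (fun a b h => by simpa using h)]
  rw [Finset.sum_congr rfl hconst, Finset.sum_const, ← Nat.cast_smul_eq_nsmul ℂ, smul_smul]
  simp only [w, smul_smul]
  rw [show (Nat.card L : ℂ)⁻¹ * ((orbit B).card : ℂ) * ((-1) ^ B.card * (Nat.card (normB B) : ℂ)) =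
    (((-1) ^ B.card : ℤ) : ℂ) by
      have h := congrArg (Nat.cast (R := ℂ)) (horbit B)
      push_cast at h ⊢
      have hL : (Nat.card L : ℂ) ≠ 0 := Nat.cast_ne_zero.mpr Nat.card_pos.ne'
      field_simp
      linear_combination h]
  exact IsGeneralizedCharacter.intCast_smul (hgc B) _

end Cfsg.Agent.Dade
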